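import Cfsg.Agent.Lib.Helper82.Central
import Cfsg.Agent.Lib.Helper79.GaloisChar
import Cfsg.Agent.Lib.Helper67.PGroupAux
import Cfsg.Agent.Lib.Helper59.UniqueOdd

set_option autoImplicit false

namespace Cfsg.Agent.Lib.Helper84.GC

open Cfsg

/-- Irreducible characters of equal degree `≠ 1` are Galois conjugate. -/
def HG (P : Type*) [Group P] : Prop :=
  ∀ χ ψ : IrrCharacter P, charDegree (χ : P → ℂ) ≠ 1 →
    charDegree (χ : P → ℂ) = charDegree (ψ : P → ℂ) →
    ∃ k : ℕ, Nat.Coprime k (Nat.card P) ∧ ∀ g : P, (ψ : P → ℂ) g = (χ : P → ℂ) (g ^ k)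

/-- The preimage in `P` of the centre of `P ⧸ L`. -/
def ZL {P : Type*} [Group P] (L : Subgroup P) [L.Normal] : Subgroup P :=
  (Subgroup.center (P ⧸ L)).comap (QuotientGroup.mk' L)

end Cfsg.Agent.Lib.Helper84.GC
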