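import Cfsg.Agent.Lib.Helper84.GC.Defs

set_option autoImplicit false

namespace Cfsg.Agent.Lib.Helper84.GC

open Cfsg
open scoped commutatorElement

/-- A nontrivial element is outside the kernel of some irreducible character. -/
theorem linsep_exists_irr_ne {G : Type*} [Group G] [Finite G] (g : G) (hg : g ≠ 1) :
    ∃ χ : IrrCharacter G, (χ : G → ℂ) g ≠ (χ : G → ℂ) 1 := by
  by_contra hcon
  push Not at hcon
  have h := Cfsg.Agent.Lib.Helper82.finsum_irr_mul_one hg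
  refine Cfsg.Agent.Lib.Helper82.finsum_irr_ne_zero_of_nonneg
    (fun χ : IrrCharacter G => (χ : G → ℂ) g * (χ : G → ℂ) 1) ?_
    (Cfsg.Agent.Lib.Helper82.trivIrr G) ?_ h
  · intro χ
    show 0 ≤ ((χ : G → ℂ) g * (χ : G → ℂ) 1).re
    rw [hcon χ, Cfsg.Agent.Lib.Helper82.isChar_one_eq (Cfsg.Agent.Lib.Helper82.isIrr_isChar χ.2)]
    have : ((charDegree (χ : G → ℂ) : ℂ) * (charDegree (χ : G → ℂ) : ℂ)).re =
        ((charDegree (χ : G → ℂ) * charDegree (χ : G → ℂ) : ℕ) : ℝ) := by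
      rw [← Nat.cast_mul]; exact Complex.natCast_re _
    rw [this]
    positivity
  · simp

/-- LINSEP. -/
theorem linsep {P : Type*} [Group P] [Finite P] (x : P) (hx : x ∉ commutator P) :
    ∃ ν : IrrCharacter P, (ν : P → ℂ) 1 = 1 ∧ (ν : P → ℂ) x ≠ 1 := by
  have hx' : (x : P ⧸ commutator P) ≠ 1 := by
    intro h
    exact hx ((QuotientGroup.eq_one_iff x).1 h)
  obtain ⟨ψ, hψ⟩ := linsep_exists_irr_ne (x : P ⧸ commutator P) hx'
  have h1 : (ψ : P ⧸ commutator P → ℂ) 1 = 1 := by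
    apply Cfsg.Agent.Lib.Helper82.isIrr_one_eq_one_of_comm _ ψ.2
    intro a b
    exact mul_comm (G := Abelianization P) a b
  refine ⟨⟨fun g => (ψ : P ⧸ commutator P → ℂ) (g : P ⧸ commutator P),
    Cfsg.Agent.Lib.Helper82.isIrr_inflate ψ.2⟩, h1, ?_⟩
  rw [h1] at hψ
  exact hψ

end Cfsg.Agent.Lib.Helper84.GC
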